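/-
Generic exactness of `M ↦ H_p(P ⊗ M)` over a domain, and finiteness of `H_p(P ⊗ M)` for finite `M`
over a Noetherian ring.
-/
import Groth.Prelude.Def_ega3
import Groth.Agent.FlatCxLib.BaseChange
import Groth.Agent.FlatCxLib.Structure
import Groth.Agent.FlatCxLib.TFunctor
import Groth.Agent.FlatCxLib.Field
import Mathlib.RingTheory.Spectrum.Prime.FreeLocus
import Mathlib.Data.Int.Interval

set_option autoImplicit false
universe u

open CategoryTheory Limits TensorProduct

namespace Groth.Agent.FlatCxLib

variable {A : Type u} [CommRing A] {P : ChainComplex (ModuleCat.{u} A) ℤ}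

/-- A finitely presented module over a domain is free at the generic point. -/
lemma bot_mem_freeLocus [IsDomain A] (M : Type u) [AddCommGroup M] [Module A M] :
    (⊥ : PrimeSpectrum A) ∈ Module.freeLocus A M := by
  rw [Module.mem_freeLocus]
  letI : IsFractionRing A (Localization.AtPrime (⊥ : PrimeSpectrum A).asIdeal) := by
    show IsLocalization (nonZeroDivisors A) (Localization (⊥ : Ideal A).primeCompl)
    rw [← Ideal.primeCompl_bot]
    infer_instance
  let : Field (Localization.AtPrime (⊥ : PrimeSpectrum A).asIdeal) := IsFractionRing.toField A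
  exact Module.Free.of_divisionRing _ _

/-- One element over which finitely many finitely presented modules become free. -/
lemma exists_basicOpen_subset_freeLocus [IsDomain A] {ι : Type*} (s : Finset ι) (M : ι → ModuleCat.{u} A)
    (hM : ∀ i, Module.FinitePresentation A (M i)) :
    ∃ f : A, f ≠ 0 ∧ ∀ i ∈ s,
      (PrimeSpectrum.basicOpen f : Set (PrimeSpectrum A)) ⊆ Module.freeLocus A (M i) := by
  have h : ∀ i, ∃ r : A, r ≠ 0 ∧
      (PrimeSpectrum.basicOpen r : Set (PrimeSpectrum A)) ⊆ Module.freeLocus A (M i) := by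
    intro i
    have := hM i
    obtain ⟨_, ⟨r, rfl⟩, hr, hsub⟩ :=
      (PrimeSpectrum.isTopologicalBasis_basic_opens.exists_subset_of_mem_open
        (bot_mem_freeLocus (A := A) (M i)) Module.isOpen_freeLocus)
    exact ⟨r, fun h0 => hr (h0 ▸ zero_mem _), hsub⟩
  choose r hr hsub using h
  refine ⟨∏ i ∈ s, r i, Finset.prod_ne_zero_iff.2 fun i _ => hr i, fun i hi x hx => hsub i ?_⟩
  obtain ⟨c, hc⟩ := Finset.dvd_prod_of_mem r hi
  intro h
  exact hx (hc ▸ Ideal.mul_mem_right c _ h)

/-- A finitely presented module is flat over `A_f` when it is free on `D(f)`. -/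
lemma flat_away_tensor (M : Type u) [AddCommGroup M] [Module A M] [Module.FinitePresentation A M] {f : A}
    (h : (PrimeSpectrum.basicOpen f : Set (PrimeSpectrum A)) ⊆ Module.freeLocus A M) :
    Module.Flat (Localization.Away f) (Localization.Away f ⊗[A] M) := by
  have : Module.freeLocus (Localization.Away f) (Localization.Away f ⊗[A] M) = Set.univ := by
    refine Set.eq_univ_of_forall fun y => Module.comap_freeLocus_le (h ?_)
    rw [← PrimeSpectrum.localization_away_comap_range (Localization.Away f)]
    exact ⟨y, rfl⟩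
  have : Module.Projective (Localization.Away f) (Localization.Away f ⊗[A] M) :=
    Module.freeLocus_eq_univ_iff.1 this
  infer_instance

lemma flat_homology_bcCx_aux {C : Type u} [CommRing C] (φ : A →+* C) (inst : Algebra A C)
    (hinst : inst = φ.toAlgebra) (hflat : Module.Flat A C) (q : ℤ)
    (h : letI := inst; Module.Flat C (C ⊗[A] P.homology q)) :
    Module.Flat C ((CohIII.bcCx φ P).homology q) := by
  subst hinst
  letI := φ.toAlgebra
  have : Module.Flat C ((ModuleCat.extendScalars φ).obj (P.homology q)) := h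
  exact Module.Flat.of_linearEquiv (homologyExtendScalarsIso φ hflat P q).toLinearEquiv

/-- Generic flatness of all the cokernels `P_{q+1} → P_q`, `q ≤ N`. -/
lemma exists_away_flat_coker [IsDomain A] (hP : ∀ i, Module.Flat A (P.X i)) (i₀ : ℤ)
    (hb : ∀ i < i₀, IsZero (P.X i))
    (hfp : ∀ n : ℤ, Module.FinitePresentation A (P.homology n)) (N : ℤ) :
    ∃ f : A, f ≠ 0 ∧ ∀ q ≤ N,
      Module.Flat (Localization.Away f) (Localization.Away f ⊗[A] Coker P (q + 1) q) := by
  obtain ⟨f, hf, hfree⟩ := exists_basicOpen_subset_freeLocus (Finset.Icc i₀ N) (fun n => P.homology n) hfp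
  refine ⟨f, hf, ?_⟩
  let C := Localization.Away f
  let K := CohIII.bcCx (algebraMap A C) P
  have hK : ∀ i, Module.Flat C (K.X i) := flat_bcCx_X P hP
  have key : ∀ n : ℕ, i₀ - 1 + n ≤ N →
      Module.Flat C (C ⊗[A] Coker P (i₀ - 1 + n + 1) (i₀ - 1 + n)) := by
    intro n
    induction n with
    | zero =>
      intro _
      have := ModuleCat.subsingleton_of_isZero (hb (i₀ - 1 + (0 : ℕ)) (by simp))
      have : Subsingleton (Coker P (i₀ - 1 + (0 : ℕ) + 1) (i₀ - 1 + (0 : ℕ))) :=
        (Submodule.mkQ_surjective _).subsingleton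
      infer_instance
    | succ n ih =>
      intro hn
      have e1 : i₀ - 1 + (n : ℤ) + 1 = i₀ - 1 + ((n + 1 : ℕ) : ℤ) := by push_cast; ring
      have := ih (by push_cast at hn; lia)
      rw [e1] at this
      have : Module.Flat C (Coker K (i₀ - 1 + ((n + 1 : ℕ) : ℤ)) (i₀ - 1 + n)) :=
        (flat_coker_bcCx_iff P _ _).2 this
      refine (flat_coker_bcCx_iff P _ _).1 ((flat_coker_iff K _ _ (i₀ - 1 + n) hK).2 ?_)
      have hmem : i₀ - 1 + ((n + 1 : ℕ) : ℤ) ∈ Finset.Icc i₀ N := by
        rw [Finset.mem_Icc]; push_cast at hn ⊢; lia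
      have := hfp (i₀ - 1 + ((n + 1 : ℕ) : ℤ))
      have h' : Module.Flat C (C ⊗[A] P.homology (i₀ - 1 + ((n + 1 : ℕ) : ℤ))) :=
        flat_away_tensor _ (hfree _ hmem)
      have : Module.Flat C (K.homology (i₀ - 1 + ((n + 1 : ℕ) : ℤ))) :=
        flat_homology_bcCx_aux (algebraMap A C) inferInstance (Algebra.algebra_ext _ _ fun _ => rfl)
          (IsLocalization.flat C (Submonoid.powers f)) _ h'
      exact Module.Flat.of_linearEquiv (hom'Equiv rfl e1)
  intro q hq
  by_cases hlt : q < i₀
  · have := ModuleCat.subsingleton_of_isZero (hb q hlt)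
    have : Subsingleton (Coker P (q + 1) q) := (Submodule.mkQ_surjective _).subsingleton
    infer_instance
  · have e : i₀ - 1 + ((q - (i₀ - 1)).toNat : ℤ) = q := by lia
    have h := key (q - (i₀ - 1)).toNat (by lia)
    rw [e] at h
    exact h

/-- The middle term of an exact sequence with finite outer terms is finite. -/
lemma finite_of_exact [IsNoetherianRing A] {X Y Z : Type u} [AddCommGroup X] [Module A X]
    [AddCommGroup Y] [Module A Y] [AddCommGroup Z] [Module A Z] (a : X →ₗ[A] Y) (b : Y →ₗ[A] Z)
    (h : Function.Exact a b) (_ : Module.Finite A X) (_ : Module.Finite A Z) : Module.Finite A Y := by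
  refine ⟨Submodule.fg_of_fg_map_of_fg_inf_ker b (IsNoetherian.noetherian _) ?_⟩
  rw [top_inf_eq, h.linearMap_ker_eq]
  exact Submodule.FG.of_finite

/-- `H_n(P ⊗ M)` is finite for finite `M`. -/
lemma finite_T [IsNoetherianRing A] (hP : ∀ i, Module.Flat A (P.X i)) (i₀ : ℤ)
    (hb : ∀ i < i₀, IsZero (P.X i))
    (hfg : ∀ n : ℤ, Module.Finite A (CohIII.T P n (ModuleCat.of A A))) :
    ∀ (n : ℤ) (M : ModuleCat.{u} A), Module.Finite A M → Module.Finite A (CohIII.T P n M) := by
  have hneg : ∀ n < i₀, ∀ M : ModuleCat.{u} A, Subsingleton (CohIII.T P n M) := fun n hn M =>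
    ModuleCat.subsingleton_of_isZero ((HomologicalComplex.exactAt_iff_isZero_homology _ _).1
      (HomologicalComplex.ExactAt.of_isZero ((MonoidalCategory.tensorRight M).map_isZero (hb n hn))))
  have key : ∀ (k : ℕ) (n : ℤ), n < i₀ + k → ∀ M : ModuleCat.{u} A, Module.Finite A M →
      Module.Finite A (CohIII.T P n M) := by
    intro k
    induction k with
    | zero =>
      intro n hn M _
      have := hneg n (by simpa using hn) M
      infer_instance
    | succ k ih =>
      intro n hn M hM
      obtain ⟨r, g, hg⟩ := Module.Finite.exists_fin' A M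
      let gm : ModuleCat.of A (Fin r → A) ⟶ M := ModuleCat.ofHom g
      have : Epi gm := (ModuleCat.epi_iff_surjective _).2 hg
      have hS : (ShortComplex.mk (kernel.ι gm) gm (kernel.condition gm)).ShortExact :=
        { exact := ShortComplex.exact_kernel gm }
      have hT := shortExact_tensorSC hP hS
      have hfree : Module.Finite A (CohIII.T P n (ModuleCat.of A (Fin r → A))) := by
        have := preservesColimitsOfShape_tfun P n
        have := hfg n
        haveI : Module.Finite A ((CohIII.TFun P n).obj (ModuleCat.of A A)) := hfg n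
        exact Module.Finite.of_surjective _
          (bijective_tM_free (CohIII.TFun P n) (ModuleCat.of A (Fin r → A))).2
      have hker : Module.Finite A (kernel gm : ModuleCat.{u} A) :=
        Module.Finite.equiv (ModuleCat.kernelIsoKer gm).toLinearEquiv.symm
      have hex := (ShortComplex.ShortExact.moduleCat_exact_iff_function_exact _).1
        (hT.homology_exact₃ n (n - 1) (show n - 1 + 1 = n by lia))
      exact finite_of_exact _ _ hex hfree (ih (n - 1) (by push_cast at hn; lia) (kernel gm) hker)
  intro n M hM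
  exact key (n - i₀ + 1).toNat n (by lia) M hM

end Groth.Agent.FlatCxLib
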