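/-
Finiteness of the homology of a base-changed flat complex along `A → B` with `B` finite over `A`.
-/
import Groth.Agent.FlatCxLib.GenericExact
import Mathlib.Algebra.Category.ModuleCat.ChangeOfRings

set_option autoImplicit false
universe u

open CategoryTheory Limits TensorProduct

namespace Groth.Agent.FlatCxLib

variable {A B : Type u} [CommRing A] [CommRing B] (φ : A →+* B) (P : ChainComplex (ModuleCat.{u} A) ℤ)

/-- `B ⊗ M`, restricted to `A`, is `M ⊗ B`. -/
noncomputable def restrictExtendIso (M : ModuleCat.{u} A) :
    (ModuleCat.restrictScalars φ).obj ((ModuleCat.extendScalars φ).obj M) ≅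
      ModuleCat.of A (letI := φ.toAlgebra; M ⊗[A] B) :=
  letI := φ.toAlgebra
  let e : (ModuleCat.restrictScalars φ).obj ((ModuleCat.extendScalars φ).obj M) ≃ₗ[A] M ⊗[A] B :=
    { toFun := fun t => TensorProduct.comm A B M t
      map_add' := fun x y => (TensorProduct.comm A B M).map_add x y
      map_smul' := fun a t => by
        change TensorProduct.comm A B M ((φ a) • (show B ⊗[A] M from t)) =
          a • TensorProduct.comm A B M (show B ⊗[A] M from t)
        rw [show φ a = algebraMap A B a from rfl, algebraMap_smul, map_smul]
      invFun := fun t => (TensorProduct.comm A B M).symm t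
      left_inv := fun t => (TensorProduct.comm A B M).symm_apply_apply t
      right_inv := fun t => (TensorProduct.comm A B M).apply_symm_apply t }
  e.toModuleIso

/-- The base-changed complex, restricted to `A`, is `P ⊗ B`. -/
noncomputable def restrictBcCxIso :
    ((ModuleCat.restrictScalars φ).mapHomologicalComplex _).obj (CohIII.bcCx φ P) ≅
      CohIII.tensorObj P (letI := φ.toAlgebra; ModuleCat.of A B) :=
  letI := φ.toAlgebra
  HomologicalComplex.Hom.isoOfComponents (fun i => restrictExtendIso φ (P.X i)) fun i j _ => by
    ext1
    refine LinearMap.ext fun t => ?_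
    show ((P.d i j).hom.rTensor B) (TensorProduct.comm A B (P.X i) t) =
      TensorProduct.comm A B (P.X j) ((P.d i j).hom.lTensor B t)
    induction (show B ⊗[A] P.X i from t) using TensorProduct.induction_on with
    | zero => simp
    | tmul b x => rfl
    | add x y hx hy => simp only [map_add, hx, hy]

lemma finite_homology_bcCx [IsNoetherianRing A] (hφ : φ.Finite) (hP : ∀ i, Module.Flat A (P.X i))
    (i₀ : ℤ) (hb : ∀ i < i₀, IsZero (P.X i))
    (hfg : ∀ n : ℤ, Module.Finite A (CohIII.T P n (ModuleCat.of A A))) (n : ℤ) :
    Module.Finite B ((CohIII.bcCx φ P).homology n) := by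
  let := φ.toAlgebra
  have : Module.Finite A (ModuleCat.of A B) := hφ
  have := finite_T hP i₀ hb hfg n (ModuleCat.of A B) this
  let e : (ModuleCat.restrictScalars φ).obj ((CohIII.bcCx φ P).homology n) ≅
      CohIII.T P n (ModuleCat.of A B) :=
    (((CohIII.bcCx φ P).sc n).mapHomologyIso (ModuleCat.restrictScalars φ)).symm ≪≫
      (HomologicalComplex.homologyFunctor _ _ n).mapIso (restrictBcCxIso φ P)
  have h : Module.Finite A ((ModuleCat.restrictScalars φ).obj ((CohIII.bcCx φ P).homology n)) :=
    Module.Finite.equiv e.toLinearEquiv.symm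
  let := Module.compHom ((CohIII.bcCx φ P).homology n) φ
  have : IsScalarTower A B ((CohIII.bcCx φ P).homology n) :=
    IsScalarTower.of_algebraMap_smul fun _ _ => rfl
  have : Module.Finite A ((CohIII.bcCx φ P).homology n) := h
  exact Module.Finite.of_restrictScalars_finite A B _

end Groth.Agent.FlatCxLib
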